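import Cfsg.Agent.Lib.AltSpec.ChiefFactor
import Cfsg.Agent.Lib.Solvable.Hall

/-!
Groups with the order and the element orders of `alternatingGroup (Fin n)`.
-/

namespace CfsgLib.AltSpec

theorem simple_factor_big_primes {G : Type*} [Group G] [Finite G] {n : ℕ} (hn : 5 ≤ n)
    (htwo : TwoPrimesIn n) (hcard : Nat.card G = Nat.card (alternatingGroup (Fin n)))
    (hspec : Set.range (orderOf : G → ℕ) = Set.range (orderOf : alternatingGroup (Fin n) → ℕ)) :
    ∃ (N H : Subgroup G) (_ : N.Normal), H.Normal ∧ N < H ∧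
      IsSimpleGroup (↥H ⧸ N.subgroupOf H) ∧ ¬ IsMulCommutative (↥H ⧸ N.subgroupOf H) ∧
      ∀ p : ℕ, p.Prime → n < 2 * p → p ≤ n → p ∣ Nat.card (↥H ⧸ N.subgroupOf H) := by
  obtain ⟨p0, q0, hp0, hq0, hlt, h1, h2⟩ := htwo
  let B : Set ℕ := {p | p.Prime ∧ n < 2 * p ∧ p ≤ n}
  obtain ⟨N, H, hN, hH, hlt', hs, hnc, hall⟩ := exists_simple_chief_factor (G := G) B (fun p hp => hp.1)
    (fun p hp => hcard ▸ (factorization_alt hp.1 (by omega) hp.2.2 hp.2.1 (by have := hp.2.1; omega)).1)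
    (fun p hp => hcard ▸ (factorization_alt hp.1 (by omega) hp.2.2 hp.2.1 (by have := hp.2.1; omega)).2)
    ⟨p0, ⟨hp0, h1, by omega⟩, q0, ⟨hq0, by omega, h2⟩, hlt.ne⟩
    (fun p hp q hq h => by
      obtain ⟨hpp, hp1, hp2⟩ := hp
      obtain ⟨hqp, hq1, hq2⟩ := hq
      obtain ⟨k, hk⟩ := h
      rcases k with _ | _ | k
      · have := hpp.two_le; omega
      · rcases hpp.eq_two_or_odd with e | e
        · omega
        · rcases hqp.eq_two_or_odd with e' | e' <;> omega
      · have : q * 2 ≤ q * (k + 1 + 1) := Nat.mul_le_mul_left q (by omega)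
        omega)
    (fun p hp q hq hne g hd => by
      apply not_mem_spectrum hp.1 hq.1 hne (show n < p + q by
        obtain ⟨-, hp1, -⟩ := hp
        obtain ⟨-, hq1, -⟩ := hq
        omega)
      rw [← hspec]
      exact ⟨g ^ (orderOf g / (p * q)), orderOf_pow_orderOf_div (orderOf_pos g).ne' hd⟩)
  exact ⟨N, H, hN, hH, hlt', hs, hnc, fun p hp h3 h4 => hall p ⟨hp, h3, h4⟩⟩

/-- A group of order `p * p * q` with arithmetic conditions has an element of order `p * q`. -/
theorem exists_element_sq_mul {H : Type*} [Group H] [Finite H] {p q : ℕ} (hp : p.Prime) (hq : q.Prime)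
    (hne : p ≠ q) (hqp : ¬ p ∣ q - 1) (hpq : ∀ d, d ∣ p ^ 2 → d % q = 1 → d = 1)
    (hcard : Nat.card H = p ^ 2 * q) : ∃ g : H, orderOf g = p * q := by
  have : Fact p.Prime := ⟨hp⟩
  have : Fact q.Prime := ⟨hq⟩
  let Q : Sylow q H := default
  have hQ : Nat.card (Q : Subgroup H) = q := by
    rw [Q.card_eq_multiplicity, hcard, Nat.factorization_mul (pow_ne_zero 2 hp.ne_zero) hq.ne_zero,
      Finsupp.add_apply, hq.factorization_self,
      Nat.factorization_eq_zero_of_not_dvd fun h => hne ((Nat.prime_dvd_prime_iff_eq hq hp).mp (hq.dvd_of_dvd_pow h)).symm,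
      zero_add, pow_one]
  have hidx : (Q : Subgroup H).index = p ^ 2 := by
    have := (Q : Subgroup H).card_mul_index
    rw [hQ, hcard, mul_comm (p ^ 2) q] at this
    exact Nat.eq_of_mul_eq_mul_left hq.pos this
  have h1 : Nat.card (Sylow q H) = 1 := by
    refine hpq _ (hidx ▸ Q.card_dvd_index) ?_
    have := card_sylow_modEq_one q H
    unfold Nat.ModEq at this
    rwa [Nat.one_mod_eq_one.mpr hq.ne_one] at this
  have hnorm : Subgroup.normalizer ((Q : Subgroup H) : Set H) = ⊤ :=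
    Subgroup.index_eq_one.mp (Q.card_eq_index_normalizer.symm.trans h1)
  obtain ⟨x, hx⟩ := exists_prime_orderOf_dvd_card' (G := (Q : Subgroup H)) q hQ.symm.dvd
  obtain ⟨y, hy⟩ := exists_prime_orderOf_dvd_card' (G := H) p (hcard ▸ ⟨p * q, by ring⟩)
  have hx' : orderOf (x : H) = q := (Subgroup.orderOf_coe x).trans hx
  have hc := commute_of_normalizes hq hp hqp (Q : Subgroup H) hQ hy (hnorm ▸ Subgroup.mem_top y) x x.2
  exact ⟨y * x, exists_element_mul hp hq hne hy hx' hc.symm⟩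

theorem not_solvable_of_small {G : Type*} [Group G] [Finite G] {n p q : ℕ} (hp : p.Prime) (hq : q.Prime)
    (hne : p ≠ q) (hsum : n < p + q) (hqp : ¬ p ∣ q - 1) (hpq : ∀ d, d ∣ p ^ 2 → d % q = 1 → d = 1)
    {m : ℕ} (hG : Nat.card G = p ^ 2 * q * m) (hm : (p ^ 2 * q).Coprime m)
    (hspec : Set.range (orderOf : G → ℕ) = Set.range (orderOf : alternatingGroup (Fin n) → ℕ)) :
    ¬ Group.IsSolvable G := by
  intro hs
  obtain ⟨H, hH⟩ := CfsgLib.Solvable.exists_isPiHall (G := G) {r | r ∣ p ^ 2 * q}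
  have hc := CfsgLib.Solvable.card_isPiHall_dvd hG hm hH
  obtain ⟨g, hg⟩ := exists_element_sq_mul hp hq hne hqp hpq hc
  apply not_mem_spectrum hp hq hne hsum
  rw [← hspec]
  exact ⟨g, (Subgroup.orderOf_coe g).trans hg⟩

end CfsgLib.AltSpec
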