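import Cfsg.Agent.Lib.AltSpec.TwoPrimes
import Cfsg.Agent.Lib.AltOrders.Basic
import Mathlib.GroupTheory.Sylow
import Mathlib.GroupTheory.Solvable
import Mathlib.GroupTheory.SpecificGroups.Cyclic
import Mathlib.GroupTheory.SpecificGroups.Alternating
import Mathlib.Data.Nat.Choose.Factorization
import Mathlib.Tactic

/-!
Primes between `n / 2` and `n` in a group with the order and spectrum of an alternating group:
they all lie in one nonabelian simple chief factor.
-/

namespace CfsgLib.AltSpec

theorem commute_of_normalizes {G : Type*} [Group G] [Finite G] {p q : ℕ} (hp : p.Prime) (hq : q.Prime)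
    (hpq : ¬ q ∣ p - 1) (P : Subgroup G) (hP : Nat.card P = p) {y : G} (hy : orderOf y = q)
    (hn : y ∈ Subgroup.normalizer (P : Set G)) : ∀ x ∈ P, Commute x y := by
  have : Fact p.Prime := ⟨hp⟩
  have hcyc : IsCyclic P := isCyclic_of_prime_card hP
  set φ := P.normalizerMonoidHom
  have h1 : φ ⟨y, hn⟩ = 1 := by
    rw [← orderOf_eq_one_iff]
    refine Nat.eq_one_of_dvd_coprimes ((Nat.Prime.coprime_iff_not_dvd hq).mpr hpq) ?_ ?_
    · refine dvd_trans (orderOf_map_dvd φ _) (dvd_of_eq ?_)
      rw [← hy, ← Subgroup.orderOf_coe]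
    · refine dvd_trans (orderOf_dvd_natCard _) (dvd_of_eq ?_)
      rw [IsCyclic.card_mulAut, hP, Nat.totient_prime hp]
  intro x hx
  have h2 := congrArg Subtype.val (MulEquiv.congr_fun h1 ⟨x, hx⟩)
  simp only [φ, MulAut.one_apply] at h2
  have h3 : y * x * y⁻¹ = x := h2
  exact ((mul_inv_eq_iff_eq_mul.mp h3).symm : x * y = y * x)

theorem exists_element_mul {G : Type*} [Group G] {p q : ℕ} (hp : p.Prime) (hq : q.Prime) (hne : p ≠ q)
    {x y : G} (hx : orderOf x = p) (hy : orderOf y = q) (hc : Commute x y) : orderOf (x * y) = p * q := by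
  rw [hc.orderOf_mul_eq_mul_orderOf_of_coprime (by rw [hx, hy]; exact (Nat.coprime_primes hp hq).mpr hne),
    hx, hy]

/-- A set `B` of (at least two) primes, each dividing `|G|` exactly once, no two joined in the prime
graph and none dividing another minus one, lies inside a nonabelian simple chief factor. -/
theorem exists_simple_chief_factor {G : Type*} [Group G] [Finite G] (B : Set ℕ)
    (hprime : ∀ p ∈ B, p.Prime) (hdvd : ∀ p ∈ B, p ∣ Nat.card G)
    (hsq : ∀ p ∈ B, ¬ p ^ 2 ∣ Nat.card G) (htwo : ∃ p ∈ B, ∃ q ∈ B, p ≠ q)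
    (hsub : ∀ p ∈ B, ∀ q ∈ B, ¬ q ∣ p - 1)
    (hspec : ∀ p ∈ B, ∀ q ∈ B, p ≠ q → ∀ g : G, ¬ p * q ∣ orderOf g) :
    ∃ (N H : Subgroup G) (_ : N.Normal), H.Normal ∧ N < H ∧
      IsSimpleGroup (↥H ⧸ N.subgroupOf H) ∧ ¬ IsMulCommutative (↥H ⧸ N.subgroupOf H) ∧
      ∀ p ∈ B, p ∣ Nat.card (↥H ⧸ N.subgroupOf H) := by
  classical
  obtain ⟨N, hNmax⟩ := (Set.toFinite {N : Subgroup G | N.Normal ∧ ∀ p ∈ B, ¬ p ∣ Nat.card N}).exists_maximal
    ⟨⊥, inferInstance, fun p hp h => (hprime p hp).not_dvd_one (Subgroup.card_bot (G := G) ▸ h)⟩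
  obtain ⟨hNn, hNB⟩ := hNmax.prop
  have hmulN : ∀ K : Subgroup (G ⧸ N), Nat.card (K.comap (QuotientGroup.mk' N)) = Nat.card N * Nat.card K := by
    intro K
    have h1 := Subgroup.card_mul_index (K.comap (QuotientGroup.mk' N))
    rw [Subgroup.index_comap_of_surjective _ (QuotientGroup.mk'_surjective N),
      Subgroup.card_eq_card_quotient_mul_card_subgroup N, ← K.card_mul_index] at h1
    exact Nat.eq_of_mul_eq_mul_right (Nat.pos_of_ne_zero K.index_ne_zero_of_finite) (h1.trans (by ring))
  have hdQ : ∀ p ∈ B, p ∣ Nat.card (G ⧸ N) := fun p hp => by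
    have := hdvd p hp
    rw [Subgroup.card_eq_card_quotient_mul_card_subgroup N] at this
    exact ((hprime p hp).dvd_mul.mp this).resolve_right (hNB p hp)
  obtain ⟨p0, hp0, q0, hq0, hpq0⟩ := htwo
  have hQnt : Nontrivial (G ⧸ N) := Finite.one_lt_card_iff_nontrivial.mp
    (lt_of_lt_of_le (hprime p0 hp0).one_lt (Nat.le_of_dvd Nat.card_pos (hdQ p0 hp0)))
  obtain ⟨H, hHmin⟩ := (Set.toFinite {K : Subgroup (G ⧸ N) | K.Normal ∧ K ≠ ⊥}).exists_minimal
    ⟨⊤, inferInstance, top_ne_bot⟩
  obtain ⟨hHn, hHne⟩ := hHmin.prop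
  obtain ⟨p, hp, hpH⟩ : ∃ p ∈ B, p ∣ Nat.card H := by
    by_contra h
    push Not at h
    have hle : N ≤ H.comap (QuotientGroup.mk' N) := by
      intro x hx
      rw [Subgroup.mem_comap, QuotientGroup.mk'_apply, (QuotientGroup.eq_one_iff x).mpr hx]
      exact one_mem _
    have h1 := hNmax.le_of_ge (y := H.comap (QuotientGroup.mk' N)) ⟨hHn.comap _, fun p hp hd => by
      rw [hmulN H] at hd
      rcases (hprime p hp).dvd_mul.mp hd with hd | hd
      · exact hNB p hp hd
      · exact h p hp hd⟩ hle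
    apply hHne
    rw [eq_bot_iff]
    intro y hy
    obtain ⟨x, rfl⟩ := QuotientGroup.mk'_surjective N y
    exact (QuotientGroup.eq_one_iff x).mpr (h1 hy)
  have hsqQ : ∀ r ∈ B, ∀ K : Subgroup (G ⧸ N), ¬ r ^ 2 ∣ Nat.card K := fun r hr K hd =>
    hsq r hr ((hd.trans K.card_subgroup_dvd_card).trans (Subgroup.card_quotient_dvd_card N))
  have hsylow : ∀ r ∈ B, ∀ K : Subgroup (G ⧸ N), r ∣ Nat.card K → ∀ P : Sylow r K,
      Nat.card (P : Subgroup K) = r := by
    intro r hr K hd P
    have : Fact r.Prime := ⟨hprime r hr⟩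
    rw [P.card_eq_multiplicity]
    conv_rhs => rw [← pow_one r]
    congr 1
    apply le_antisymm
    · by_contra h
      exact hsqQ r hr K (((hprime r hr).pow_dvd_iff_le_factorization Nat.card_pos.ne').mpr (by omega))
    · exact ((hprime r hr).pow_dvd_iff_le_factorization Nat.card_pos.ne').mp (by rwa [pow_one])
  -- every prime of B divides |H|
  have hall : ∀ q ∈ B, q ∣ Nat.card H := by
    intro q hq
    by_contra hqH
    have hne : p ≠ q := fun e => hqH (e ▸ hpH)
    have : Fact p.Prime := ⟨hprime p hp⟩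
    have : Fact q.Prime := ⟨hprime q hq⟩
    let P : Sylow p H := default
    set P' := (P : Subgroup H).map H.subtype with hP'
    have hPc : Nat.card P' = p := by
      rw [hP', ← Nat.card_congr ((P : Subgroup H).equivMapOfInjective _ H.subtype_injective).toEquiv,
        hsylow p hp H hpH P]
    have htop := Sylow.normalizer_sup_eq_top P
    set M := Subgroup.normalizer (P' : Set (G ⧸ N))
    have hidx : H.index ∣ Nat.card M := by
      have hs : Function.Surjective ((QuotientGroup.mk' H).comp M.subtype) := by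
        rw [← MonoidHom.range_eq_top, MonoidHom.range_comp, Subgroup.range_subtype]
        have := congrArg (Subgroup.map (QuotientGroup.mk' H)) htop
        rw [Subgroup.map_sup, Subgroup.map_top_of_surjective _ (QuotientGroup.mk'_surjective H),
          QuotientGroup.map_mk'_self, sup_bot_eq] at this
        exact this
      exact Subgroup.card_dvd_of_surjective _ hs
    have hqI : q ∣ H.index := by
      have := hdQ q hq
      rw [← H.card_mul_index] at this
      exact ((hprime q hq).dvd_mul.mp this).resolve_left hqH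
    obtain ⟨y, hy⟩ := exists_prime_orderOf_dvd_card' (G := M) q (hqI.trans hidx)
    obtain ⟨x, hx⟩ := exists_prime_orderOf_dvd_card' (G := P') p hPc.symm.dvd
    have hy' : orderOf (y : G ⧸ N) = q := (Subgroup.orderOf_coe y).trans hy
    have hx' : orderOf (x : G ⧸ N) = p := (Subgroup.orderOf_coe x).trans hx
    have hc := commute_of_normalizes (hprime p hp) (hprime q hq) (hsub p hp q hq) P' hPc hy' y.2 x x.2
    obtain ⟨g, hg⟩ := QuotientGroup.mk'_surjective N ((x : G ⧸ N) * y)
    apply hspec p hp q hq hne g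
    rw [← exists_element_mul (hprime p hp) (hprime q hq) hne hx' hy' hc, ← hg]
    exact orderOf_map_dvd _ g
  -- simplicity
  have hsimple : IsSimpleGroup H := by
    have : Nontrivial H := (Subgroup.nontrivial_iff_ne_bot H).mpr hHne
    have : Fact p.Prime := ⟨hprime p hp⟩
    -- the largest normal p'-subgroup of H
    obtain ⟨M, hMmax⟩ := (Set.toFinite {K : Subgroup H | K.Normal ∧ ¬ p ∣ Nat.card K}).exists_maximal
      ⟨⊥, inferInstance, fun h => (hprime p hp).not_dvd_one (Subgroup.card_bot (G := H) ▸ h)⟩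
    obtain ⟨hMn, hMp⟩ := hMmax.prop
    have hMbig : ∀ K : Subgroup H, K.Normal → ¬ p ∣ Nat.card K → K ≤ M := by
      intro K hK hKp
      have h1 : ¬ p ∣ Nat.card (M ⊔ K : Subgroup H) := by
        intro hd
        have h2 : Nat.card (M ⊔ K : Subgroup H) ∣ Nat.card M * Nat.card K := by
          rw [← Subgroup.card_mul_index (M.subgroupOf (M ⊔ K)),
            Nat.card_congr (Subgroup.subgroupOfEquivOfLe (le_sup_left : M ≤ M ⊔ K)).toEquiv]
          refine Nat.mul_dvd_mul_left _ ?_
          change M.relIndex (M ⊔ K) ∣ _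
          rw [sup_comm, Subgroup.relIndex_sup_right]
          exact Subgroup.relIndex_dvd_card M K
        rcases (hprime p hp).dvd_mul.mp (hd.trans h2) with h | h
        · exact hMp h
        · exact hKp h
      exact le_sup_right.trans (hMmax.le_of_ge ⟨inferInstance, h1⟩ le_sup_left)
    have hMG : (M.map H.subtype).Normal := by
      constructor
      rintro _ ⟨m, hm, rfl⟩ g
      let e : H ≃* H := MulAut.conjNormal g
      refine ⟨e m, hMbig _ (hMn.map _ e.surjective) ?_ (Subgroup.mem_map_of_mem e.toMonoidHom hm),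
        MulAut.conjNormal_apply g m⟩
      exact fun hd => hMp (hd.trans (dvd_of_eq (Nat.card_congr (M.equivMapOfInjective e.toMonoidHom e.injective).toEquiv).symm))
    have hMbot : M = ⊥ := by
      by_contra h
      have h1 := hHmin.le_of_le (y := M.map H.subtype) ⟨hMG, fun e =>
        h ((Subgroup.map_eq_bot_iff_of_injective _ H.subtype_injective).mp e)⟩ (Subgroup.map_subtype_le M)
      apply hMp
      rw [Nat.card_congr (M.equivMapOfInjective H.subtype H.subtype_injective).toEquiv,
        le_antisymm (Subgroup.map_subtype_le M) h1]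
      exact hpH
    -- a proper normal subgroup of order divisible by p contains every element of order p
    refine ⟨fun K hK => ?_⟩
    by_contra hK2
    push Not at hK2
    obtain ⟨hKb, hKt⟩ := hK2
    by_cases hKp : p ∣ Nat.card K
    · obtain ⟨L, hLmax⟩ := (Set.toFinite {L : Subgroup H | L.Normal ∧ p ∣ Nat.card L}).exists_minimal
        ⟨K, hK, hKp⟩
      obtain ⟨hLn, hLp⟩ := hLmax.prop
      have hLmin : ∀ L' : Subgroup H, L'.Normal → p ∣ Nat.card L' → L ≤ L' := by
        intro L' hL' hp'
        have hmem : ∀ (A : Subgroup H), A.Normal → p ∣ Nat.card A → ∀ z : H, orderOf z = p → z ∈ A := by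
          intro A hA hAp z hz
          have hidxA : ¬ p ∣ A.index := by
            intro hd
            refine hsqQ p hp H ?_
            rw [← A.card_mul_index, pow_two]
            exact Nat.mul_dvd_mul hAp hd
          rw [← QuotientGroup.eq_one_iff (N := A) z, ← orderOf_eq_one_iff]
          exact Nat.eq_one_of_dvd_coprimes ((hprime p hp).coprime_iff_not_dvd.mpr hidxA)
            (hz ▸ orderOf_map_dvd (QuotientGroup.mk' A) z) (orderOf_dvd_natCard _)
        obtain ⟨z, hz⟩ := exists_prime_orderOf_dvd_card' (G := H) p hpH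
        have h1 : p ∣ Nat.card (L ⊓ L' : Subgroup H) := by
          rw [← hz]
          exact Subgroup.orderOf_dvd_natCard _ ⟨hmem L hLn hLp z hz, hmem L' hL' hp' z hz⟩
        exact (hLmax.le_of_le ⟨inferInstance, h1⟩ inf_le_left).trans inf_le_right
      have hLG : (L.map H.subtype).Normal := by
        constructor
        rintro _ ⟨m, hm, rfl⟩ g
        let e : H ≃* H := MulAut.conjNormal g
        have h1 : L = L.map e.toMonoidHom := Subgroup.eq_of_le_of_card_ge
          (hLmin _ (hLn.map _ e.surjective)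
            (hLp.trans (dvd_of_eq (Nat.card_congr (L.equivMapOfInjective e.toMonoidHom e.injective).toEquiv))))
          (le_of_eq (Nat.card_congr (L.equivMapOfInjective e.toMonoidHom e.injective).toEquiv).symm)
        refine ⟨e m, ?_, MulAut.conjNormal_apply g m⟩
        rw [h1]
        exact Subgroup.mem_map_of_mem e.toMonoidHom hm
      have hLb : L.map H.subtype ≠ ⊥ := fun e => (hprime p hp).not_dvd_one (by
        rw [(Subgroup.map_eq_bot_iff_of_injective _ H.subtype_injective).mp e, Subgroup.card_bot] at hLp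
        exact hLp)
      have h1 := hHmin.le_of_le (y := L.map H.subtype) ⟨hLG, hLb⟩ (Subgroup.map_subtype_le L)
      apply hKt
      rw [eq_top_iff]
      intro z _
      obtain ⟨w, hw, hwz⟩ := h1 z.2
      exact (Subtype.ext hwz : w = z) ▸ hLmin K hK hKp hw
    · exact hKb (le_bot_iff.mp (hMbot ▸ hMbig K hK hKp))
  have hnc : ¬ IsMulCommutative H := by
    intro h
    have hpr : (Nat.card H).Prime := by
      let : CommGroup H := { (inferInstance : Group H) with mul_comm := h.is_comm.comm }
      exact IsSimpleGroup.prime_card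
    apply hpq0
    rw [(Nat.prime_dvd_prime_iff_eq (hprime p0 hp0) hpr).mp (hall p0 hp0),
      (Nat.prime_dvd_prime_iff_eq (hprime q0 hq0) hpr).mp (hall q0 hq0)]
  -- transfer to the preimage
  set Ht := H.comap (QuotientGroup.mk' N) with hHt
  have hle : N ≤ Ht := fun x hx => by
    rw [hHt, Subgroup.mem_comap, QuotientGroup.mk'_apply, (QuotientGroup.eq_one_iff x).mpr hx]
    exact one_mem _
  have hsurj : Function.Surjective ((QuotientGroup.mk' N).subgroupComap H) := fun y => by
    obtain ⟨x, hx⟩ := QuotientGroup.mk'_surjective N (y : G ⧸ N)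
    exact ⟨⟨x, show QuotientGroup.mk' N x ∈ H from hx ▸ y.2⟩, Subtype.ext hx⟩
  have hker : ((QuotientGroup.mk' N).subgroupComap H).ker = N.subgroupOf Ht := by
    ext x
    change (QuotientGroup.mk' N).subgroupComap H x = 1 ↔ (x : G) ∈ N
    rw [Subtype.ext_iff]
    exact QuotientGroup.eq_one_iff (x : G)
  let e : ↥Ht ⧸ N.subgroupOf Ht ≃* H := (QuotientGroup.quotientMulEquivOfEq hker).symm.trans
    (QuotientGroup.quotientKerEquivOfSurjective _ hsurj)
  refine ⟨N, Ht, hNn, hHn.comap _, lt_of_le_of_ne hle fun hEq => ?_, ?_, ?_, ?_⟩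
  · have h1 := hmulN H
    rw [← hHt, ← hEq] at h1
    have h2 : Nat.card H = 1 := by
      have := Nat.eq_of_mul_eq_mul_left Nat.card_pos (h1.symm.trans (mul_one _).symm)
      exact this
    exact hHne (Subgroup.card_eq_one.mp h2)
  · have : Nontrivial (↥Ht ⧸ N.subgroupOf Ht) := e.toEquiv.nontrivial
    exact IsSimpleGroup.isSimpleGroup_of_surjective e.symm.toMonoidHom e.symm.surjective
  · intro h
    exact hnc ⟨⟨fun a b => e.symm.injective (by rw [map_mul, map_mul]; exact h.is_comm.comm _ _)⟩⟩
  · intro r hr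
    rw [Nat.card_congr e.toEquiv]
    exact hall r hr

theorem factorization_alt {n p : ℕ} (hp : p.Prime) (hn : 2 ≤ n) (h1 : p ≤ n) (h2 : n < 2 * p) (hodd : p ≠ 2) :
    p ∣ Nat.card (alternatingGroup (Fin n)) ∧ ¬ p ^ 2 ∣ Nat.card (alternatingGroup (Fin n)) := by
  have : Nontrivial (Fin n) := Fin.nontrivial_iff_two_le.mpr hn
  have h := two_mul_nat_card_alternatingGroup (α := Fin n)
  rw [Nat.card_perm, Nat.card_fin] at h
  constructor
  · have h3 : p ∣ 2 * Nat.card (alternatingGroup (Fin n)) := by
      rw [h]; exact hp.dvd_factorial.mpr h1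
    exact (hp.dvd_mul.mp h3).resolve_left fun e => hodd ((Nat.prime_dvd_prime_iff_eq hp Nat.prime_two).mp e)
  · intro hd
    have h3 : p ^ 2 ∣ n.factorial := h ▸ dvd_mul_of_dvd_right hd 2
    have hlog : Nat.log p n < 2 := by
      apply Nat.log_lt_of_lt_pow (by omega)
      have h4 : 2 * p ≤ p ^ 2 := by rw [pow_two]; exact Nat.mul_le_mul_right p hp.two_le
      omega
    have h5 := (hp.pow_dvd_iff_le_factorization n.factorial_ne_zero).mp h3
    rw [Nat.factorization_factorial hp hlog] at h5
    have h6 : n / p < 2 := Nat.div_lt_iff_lt_mul hp.pos |>.mpr h2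
    have h7 : Finset.Ico 1 2 = {1} := rfl
    rw [h7, Finset.sum_singleton, pow_one] at h5
    omega

theorem not_mem_spectrum {n p q : ℕ} (hp : p.Prime) (hq : q.Prime) (hne : p ≠ q) (hsum : n < p + q) :
    p * q ∉ Set.range (orderOf : alternatingGroup (Fin n) → ℕ) := by
  rw [CfsgLib.AltOrders.mem_range_orderOf_iff]
  rintro ⟨s, hs2, hsum', -, hl⟩
  have hfind : ∀ r : ℕ, r.Prime → r ∣ p * q → ∃ a ∈ s, r ∣ a := by
    intro r hr hd
    rw [← hl] at hd
    have hd2 : r ∣ s.prod := hd.trans (Multiset.lcm_dvd.mpr fun a ha => Multiset.dvd_prod ha)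
    exact (Prime.exists_mem_multiset_dvd hr.prime hd2)
  obtain ⟨a, ha, hpa⟩ := hfind p hp (dvd_mul_right p q)
  obtain ⟨b, hb, hqb⟩ := hfind q hq (dvd_mul_left q p)
  have ha2 := hs2 a ha
  have hb2 := hs2 b hb
  by_cases hab : a = b
  · subst hab
    have h1 := Nat.le_of_dvd (by omega) (((Nat.coprime_primes hp hq).mpr hne).mul_dvd_of_dvd_of_dvd hpa hqb)
    have h2 := Multiset.le_sum_of_mem ha
    have h3 : p + q ≤ p * q := by
      have := hp.two_le; have := hq.two_le; nlinarith
    omega
  · obtain ⟨t, rfl⟩ := Multiset.exists_cons_of_mem ha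
    have hbt : b ∈ t := by
      rcases Multiset.mem_cons.mp hb with h | h
      · exact absurd h.symm hab
      · exact h
    have h2 := Multiset.le_sum_of_mem hbt
    rw [Multiset.sum_cons] at hsum'
    have := Nat.le_of_dvd (by omega) hpa
    have := Nat.le_of_dvd (by omega) hqb
    omega

end CfsgLib.AltSpec
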