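import Cfsg.Agent.Lib.AltSpec.TwoPrimes

/-!
For `n ≥ 11`, apart from `n = 14, 15, 16`, there are two primes in the interval `(n/2, n]` which
differ by at least `3`.
-/

namespace CfsgLib.AltSpec

open Nat Finset

theorem centralBinom_le_of_two_primes (n : ℕ) (E : Finset ℕ) (hE : E.card ≤ 2) (n_large : 2 < n)
    (h0 : ∀ p : ℕ, p.Prime → n < p → p ≤ 2 * n → p ∈ E) :
    centralBinom n ≤ (2 * n) ^ 2 * ((2 * n) ^ Nat.sqrt (2 * n) * 4 ^ (2 * n / 3)) := by
  classical
  have n2_pos : 1 ≤ 2 * n := by omega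
  set f : ℕ → ℕ := fun x => x ^ n.centralBinom.factorization x with hf
  have hfle : ∀ x, f x ≤ 2 * n := fun x => pow_factorization_choose_le (by omega)
  let S := {p ∈ Finset.range (2 * n / 3 + 1) | Nat.Prime p}
  have hprod : centralBinom n = ∏ x ∈ Finset.range (2 * n + 1), f x :=
    n.prod_pow_factorization_centralBinom.symm
  have hsub : ∏ x ∈ Finset.range (2 * n + 1), f x = ∏ x ∈ (E ∪ S) ∩ Finset.range (2 * n + 1), f x := by
    refine (Finset.prod_subset Finset.inter_subset_right fun x hx hnot => ?_).symm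
    rw [Finset.mem_inter, Finset.mem_union] at hnot
    push Not at hnot
    by_cases hp : x.Prime
    · have hne : x ∉ E := fun e => (hnot (Or.inl e)) hx
      have hS : x ∉ S := fun e => (hnot (Or.inr e)) hx
      have h1 : ¬ x < 2 * n / 3 + 1 := fun e => hS (Finset.mem_filter.mpr ⟨Finset.mem_range.mpr e, hp⟩)
      have h2 : x ≤ n := by
        by_contra h
        exact hne (h0 x hp (by omega) (by rw [Finset.mem_range] at hx; omega))
      simp only [f, factorization_centralBinom_of_two_mul_self_lt_three_mul n_large h2 (by omega),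
        Nat.pow_zero]
    · simp only [f, factorization_eq_zero_of_not_prime n.centralBinom hp, Nat.pow_zero]
  have hpos : ∀ x, 1 ≤ f x := by
    intro x
    rcases Nat.eq_zero_or_pos x with rfl | hx
    · simp [f]
    · exact Nat.one_le_pow _ _ hx
  have hS : ∏ x ∈ S, f x ≤ (2 * n) ^ Nat.sqrt (2 * n) * 4 ^ (2 * n / 3) := by
    rw [← Finset.prod_filter_mul_prod_filter_not S (· ≤ Nat.sqrt (2 * n))]
    apply mul_le_mul'
    · refine (Finset.prod_le_prod' fun p _ => hfle p).trans ?_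
      have : (Finset.Icc 1 (Nat.sqrt (2 * n))).card = Nat.sqrt (2 * n) := by
        rw [card_Icc, Nat.add_sub_cancel]
      rw [Finset.prod_const]
      refine pow_right_mono₀ n2_pos ((Finset.card_le_card fun x hx => ?_).trans this.le)
      obtain ⟨h1, h2⟩ := Finset.mem_filter.1 hx
      exact Finset.mem_Icc.mpr ⟨(Finset.mem_filter.1 h1).2.one_lt.le, h2⟩
    · refine le_trans ?_ (primorial_le_four_pow (2 * n / 3))
      refine (Finset.prod_le_prod' fun p hp => (?_ : f p ≤ p)).trans ?_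
      · obtain ⟨h1, h2⟩ := Finset.mem_filter.1 hp
        refine (pow_right_mono₀ (Finset.mem_filter.1 h1).2.one_lt.le ?_).trans (pow_one p).le
        exact Nat.factorization_choose_le_one (Nat.sqrt_lt'.mp <| not_le.1 h2)
      refine Finset.prod_le_prod_of_subset_of_one_le' (Finset.filter_subset _ _) ?_
      exact fun p hp _ => (Finset.mem_filter.1 hp).2.one_lt.le
  rw [hprod, hsub]
  calc ∏ x ∈ (E ∪ S) ∩ Finset.range (2 * n + 1), f x
      ≤ ∏ x ∈ E ∪ S, f x :=
        Finset.prod_le_prod_of_subset_of_one_le' Finset.inter_subset_left (fun x _ _ => hpos x)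
    _ ≤ (2 * n) ^ 2 * ∏ x ∈ S, f x := by
        rw [← Finset.sdiff_union_self_eq_union, Finset.prod_union Finset.sdiff_disjoint]
        refine Nat.mul_le_mul_right _ ((Finset.prod_le_prod' fun x _ => hfle x).trans ?_)
        rw [Finset.prod_const]
        exact Nat.pow_le_pow_right n2_pos ((Finset.card_le_card Finset.sdiff_subset).trans hE)
    _ ≤ _ := Nat.mul_le_mul_left _ hS

theorem main_inequality_three {n : ℕ} (hn : 1152 ≤ n) :
    n * ((2 * n) ^ 2 * ((2 * n) ^ Nat.sqrt (2 * n) * 4 ^ (2 * n / 3))) ≤ 4 ^ n := by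
  set k := Nat.sqrt (2 * n) with hk
  have hk48 : 48 ≤ k := Nat.le_sqrt.mpr (by omega)
  have hk2 : k * k ≤ 2 * n := Nat.sqrt_le _
  have hlt : 2 * n < (k + 1) * (k + 1) := Nat.lt_succ_sqrt _
  set j := k / 8 with hj
  have hkj : k + 1 ≤ 2 ^ j := le_trans (by omega) (two_pow_ge j (by omega))
  have h2n : 2 * n ≤ 2 ^ (2 * j) := by
    rw [two_mul j, pow_add]
    exact hlt.le.trans (Nat.mul_le_mul hkj hkj)
  have h1 : n * ((2 * n) ^ 2 * ((2 * n) ^ k * 4 ^ (2 * n / 3))) ≤ (2 * n) ^ (k + 3) * 4 ^ (2 * n / 3) := by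
    calc n * ((2 * n) ^ 2 * ((2 * n) ^ k * 4 ^ (2 * n / 3)))
        ≤ 2 * n * ((2 * n) ^ 2 * ((2 * n) ^ k * 4 ^ (2 * n / 3))) := Nat.mul_le_mul_right _ (by omega)
      _ = (2 * n) ^ (k + 3) * 4 ^ (2 * n / 3) := by ring
  have hexp : 2 * j * (k + 3) + 2 * (2 * n / 3) ≤ 2 * n := by
    have h8 : 8 * j ≤ k := by omega
    have h2 : 8 * (j * (k + 3)) ≤ k * (k + 3) := by
      rw [← mul_assoc]; exact Nat.mul_le_mul_right _ h8
    have h3 : 9 * k ≤ k * k := Nat.mul_le_mul_right k (by omega)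
    have h4 : k * (k + 3) = k * k + 3 * k := by ring
    have h5 : 2 * j * (k + 3) = 2 * (j * (k + 3)) := by ring
    rw [h5]
    have h6 : 3 * (2 * n / 3) ≤ 2 * n := Nat.mul_div_le _ _
    omega
  refine h1.trans ?_
  calc (2 * n) ^ (k + 3) * 4 ^ (2 * n / 3) ≤ (2 ^ (2 * j)) ^ (k + 3) * 4 ^ (2 * n / 3) :=
        Nat.mul_le_mul_right _ (Nat.pow_le_pow_left h2n _)
    _ = 2 ^ (2 * j * (k + 3) + 2 * (2 * n / 3)) := by
        rw [← pow_mul, pow_add, show (4 : ℕ) = 2 ^ 2 by norm_num, ← pow_mul]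
    _ ≤ 2 ^ (2 * n) := Nat.pow_le_pow_right (by norm_num) hexp
    _ = 4 ^ n := by rw [pow_mul]; norm_num

/-- two primes in `(n/2, n]` at distance at least three -/
def SeparatedPrimesIn (n : ℕ) : Prop :=
  ∃ p q : ℕ, p.Prime ∧ q.Prime ∧ p + 3 ≤ q ∧ n < 2 * p ∧ q ≤ n

theorem exists_three_primes {m : ℕ} (hm : 1152 ≤ m) :
    ∃ a b c : ℕ, a.Prime ∧ b.Prime ∧ c.Prime ∧ a ≠ b ∧ a ≠ c ∧ b ≠ c ∧
      (m < a ∧ a ≤ 2 * m) ∧ (m < b ∧ b ≤ 2 * m) ∧ (m < c ∧ c ≤ 2 * m) := by
  by_contra hcon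
  push Not at hcon
  have key : ∀ E : Finset ℕ, E.card ≤ 2 → ∃ p, p.Prime ∧ m < p ∧ p ≤ 2 * m ∧ p ∉ E := by
    intro E hE
    by_contra h
    push Not at h
    exact lt_irrefl _ ((Nat.four_pow_lt_mul_centralBinom m (by omega)).trans_le
      ((Nat.mul_le_mul_left m (centralBinom_le_of_two_primes m E hE (by omega) h)).trans
        (main_inequality_three hm)))
  obtain ⟨a, ha, ha1, ha2, -⟩ := key ∅ (by simp)
  obtain ⟨b, hb, hb1, hb2, hba⟩ := key {a} (by simp)
  obtain ⟨c, hc, hc1, hc2, hcab⟩ := key {a, b} Finset.card_le_two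
  rw [Finset.mem_singleton] at hba
  rw [Finset.mem_insert, Finset.mem_singleton, not_or] at hcab
  have := hcon a b c ha hb hc (Ne.symm hba) (Ne.symm hcab.1) (Ne.symm hcab.2) ⟨ha1, ha2⟩ ⟨hb1, hb2⟩ hc1
  omega

theorem separatedPrimesIn_large {n : ℕ} (hn : 2304 ≤ n) : SeparatedPrimesIn n := by
  obtain ⟨a, b, c, ha, hb, hc, hab, hac, hbc, ⟨a1, a2⟩, ⟨b1, b2⟩, c1, c2⟩ :=
    exists_three_primes (m := n / 2) (by omega)
  have oa := ha.eq_two_or_odd
  have ob := hb.eq_two_or_odd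
  have oc := hc.eq_two_or_odd
  have : (a + 3 ≤ b ∨ b + 3 ≤ a) ∨ (a + 3 ≤ c ∨ c + 3 ≤ a) ∨ (b + 3 ≤ c ∨ c + 3 ≤ b) := by omega
  rcases this with (h | h) | (h | h) | (h | h)
  · exact ⟨a, b, ha, hb, h, by omega, by omega⟩
  · exact ⟨b, a, hb, ha, h, by omega, by omega⟩
  · exact ⟨a, c, ha, hc, h, by omega, by omega⟩
  · exact ⟨c, a, hc, ha, h, by omega, by omega⟩
  · exact ⟨b, c, hb, hc, h, by omega, by omega⟩
  · exact ⟨c, b, hc, hb, h, by omega, by omega⟩

theorem separatedPrimesIn_step {n : ℕ} (p q : ℕ) (hp : p.Prime) (hq : q.Prime) (hpq : p + 3 ≤ q)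
    (h : n < q → SeparatedPrimesIn n) (hn : n < 2 * p) : SeparatedPrimesIn n := by
  by_cases hnq : n < q
  · exact h hnq
  · exact ⟨p, q, hp, hq, hpq, hn, by omega⟩

theorem exists_separated_primes (n : ℕ) (hn : 11 ≤ n) (hne : n < 14 ∨ 17 ≤ n) : SeparatedPrimesIn n := by
  by_cases h : 2304 ≤ n
  · exact separatedPrimesIn_large h
  refine separatedPrimesIn_step 1499 1511 (by norm_num) (by norm_num) (by norm_num) (fun h0 => ?_) (by omega)
  refine separatedPrimesIn_step 757 769 (by norm_num) (by norm_num) (by norm_num) (fun h1 => ?_) (by omega)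
  refine separatedPrimesIn_step 389 401 (by norm_num) (by norm_num) (by norm_num) (fun h2 => ?_) (by omega)
  refine separatedPrimesIn_step 211 223 (by norm_num) (by norm_num) (by norm_num) (fun h3 => ?_) (by omega)
  refine separatedPrimesIn_step 113 127 (by norm_num) (by norm_num) (by norm_num) (fun h4 => ?_) (by omega)
  refine separatedPrimesIn_step 67 71 (by norm_num) (by norm_num) (by norm_num) (fun h5 => ?_) (by omega)
  refine separatedPrimesIn_step 37 41 (by norm_num) (by norm_num) (by norm_num) (fun h6 => ?_) (by omega)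
  refine separatedPrimesIn_step 23 29 (by norm_num) (by norm_num) (by norm_num) (fun h7 => ?_) (by omega)
  refine separatedPrimesIn_step 17 23 (by norm_num) (by norm_num) (by norm_num) (fun h8 => ?_) (by omega)
  refine separatedPrimesIn_step 13 17 (by norm_num) (by norm_num) (by norm_num) (fun h9 => ?_) (by omega)
  exact ⟨7, 11, by norm_num, by norm_num, by norm_num, by omega, hn⟩

end CfsgLib.AltSpec
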