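import Mathlib.NumberTheory.Bertrand
import Mathlib.Tactic

/-!
For `n ≥ 11` there are two primes in the interval `(n/2, n]`.
-/

namespace CfsgLib.AltSpec

open Nat Finset

theorem centralBinom_le_of_one_prime (n p0 : ℕ) (n_large : 2 < n)
    (h0 : ∀ p : ℕ, p.Prime → n < p → p ≤ 2 * n → p = p0) :
    centralBinom n ≤ 2 * n * ((2 * n) ^ Nat.sqrt (2 * n) * 4 ^ (2 * n / 3)) := by
  classical
  have n2_pos : 1 ≤ 2 * n := by omega
  set f : ℕ → ℕ := fun x => x ^ n.centralBinom.factorization x with hf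
  have hfle : ∀ x, f x ≤ 2 * n := fun x => pow_factorization_choose_le (by omega)
  let S := {p ∈ Finset.range (2 * n / 3 + 1) | Nat.Prime p}
  have hprod : centralBinom n = ∏ x ∈ Finset.range (2 * n + 1), f x :=
    n.prod_pow_factorization_centralBinom.symm
  have hsub : ∏ x ∈ Finset.range (2 * n + 1), f x = ∏ x ∈ (insert p0 S) ∩ Finset.range (2 * n + 1), f x := by
    refine (Finset.prod_subset Finset.inter_subset_right fun x hx hnot => ?_).symm
    rw [Finset.mem_inter, Finset.mem_insert] at hnot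
    push Not at hnot
    by_cases hp : x.Prime
    · have hne : x ≠ p0 := fun e => (hnot (Or.inl e)) hx
      have hS : x ∉ S := fun e => (hnot (Or.inr e)) hx
      have h1 : ¬ x < 2 * n / 3 + 1 := fun e => hS (Finset.mem_filter.mpr ⟨Finset.mem_range.mpr e, hp⟩)
      have h2 : x ≤ n := by
        by_contra h
        exact hne (h0 x hp (by omega) (by rw [Finset.mem_range] at hx; omega))
      simp only [f, factorization_centralBinom_of_two_mul_self_lt_three_mul n_large h2 (by omega),
        Nat.pow_zero]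
    · simp only [f, factorization_eq_zero_of_not_prime n.centralBinom hp, Nat.pow_zero]
  have hpos : ∀ x, 1 ≤ f x := by
    intro x
    rcases Nat.eq_zero_or_pos x with rfl | hx
    · simp [f]
    · exact Nat.one_le_pow _ _ hx
  have hS : ∏ x ∈ S, f x ≤ (2 * n) ^ Nat.sqrt (2 * n) * 4 ^ (2 * n / 3) := by
    rw [← Finset.prod_filter_mul_prod_filter_not S (· ≤ Nat.sqrt (2 * n))]
    apply mul_le_mul'
    · refine (Finset.prod_le_prod' fun p _ => hfle p).trans ?_
      have : (Finset.Icc 1 (Nat.sqrt (2 * n))).card = Nat.sqrt (2 * n) := by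
        rw [card_Icc, Nat.add_sub_cancel]
      rw [Finset.prod_const]
      refine pow_right_mono₀ n2_pos ((Finset.card_le_card fun x hx => ?_).trans this.le)
      obtain ⟨h1, h2⟩ := Finset.mem_filter.1 hx
      exact Finset.mem_Icc.mpr ⟨(Finset.mem_filter.1 h1).2.one_lt.le, h2⟩
    · refine le_trans ?_ (primorial_le_four_pow (2 * n / 3))
      refine (Finset.prod_le_prod' fun p hp => (?_ : f p ≤ p)).trans ?_
      · obtain ⟨h1, h2⟩ := Finset.mem_filter.1 hp
        refine (pow_right_mono₀ (Finset.mem_filter.1 h1).2.one_lt.le ?_).trans (pow_one p).le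
        exact Nat.factorization_choose_le_one (Nat.sqrt_lt'.mp <| not_le.1 h2)
      refine Finset.prod_le_prod_of_subset_of_one_le' (Finset.filter_subset _ _) ?_
      exact fun p hp _ => (Finset.mem_filter.1 hp).2.one_lt.le
  rw [hprod, hsub]
  calc ∏ x ∈ (insert p0 S) ∩ Finset.range (2 * n + 1), f x
      ≤ ∏ x ∈ insert p0 S, f x :=
        Finset.prod_le_prod_of_subset_of_one_le' Finset.inter_subset_left (fun x _ _ => hpos x)
    _ ≤ 2 * n * ∏ x ∈ S, f x := by
        by_cases h : p0 ∈ S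
        · rw [Finset.insert_eq_of_mem h]
          exact Nat.le_mul_of_pos_left _ (by omega)
        · rw [Finset.prod_insert h]
          exact Nat.mul_le_mul_right _ (hfle p0)
    _ ≤ _ := Nat.mul_le_mul_left _ hS

theorem two_pow_ge (j : ℕ) (hj : 6 ≤ j) : 8 * j + 8 ≤ 2 ^ j := by
  induction j, hj using Nat.le_induction with
  | base => norm_num
  | succ j hj ih => rw [pow_succ]; omega

theorem main_inequality {n : ℕ} (hn : 1152 ≤ n) :
    n * (2 * n * ((2 * n) ^ Nat.sqrt (2 * n) * 4 ^ (2 * n / 3))) ≤ 4 ^ n := by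
  set k := Nat.sqrt (2 * n) with hk
  have hk48 : 48 ≤ k := Nat.le_sqrt.mpr (by omega)
  have hk2 : k * k ≤ 2 * n := Nat.sqrt_le _
  have hlt : 2 * n < (k + 1) * (k + 1) := Nat.lt_succ_sqrt _
  set j := k / 8 with hj
  have hkj : k + 1 ≤ 2 ^ j := le_trans (by omega) (two_pow_ge j (by omega))
  have h2n : 2 * n ≤ 2 ^ (2 * j) := by
    rw [two_mul j, pow_add]
    exact hlt.le.trans (Nat.mul_le_mul hkj hkj)
  have h1 : n * (2 * n * ((2 * n) ^ k * 4 ^ (2 * n / 3))) ≤ (2 * n) ^ (k + 2) * 4 ^ (2 * n / 3) := by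
    rw [pow_add]
    calc n * (2 * n * ((2 * n) ^ k * 4 ^ (2 * n / 3)))
        ≤ 2 * n * (2 * n * ((2 * n) ^ k * 4 ^ (2 * n / 3))) := Nat.mul_le_mul_right _ (by omega)
      _ = (2 * n) ^ k * (2 * n) ^ 2 * 4 ^ (2 * n / 3) := by ring
  have hexp : 2 * j * (k + 2) + 2 * (2 * n / 3) ≤ 2 * n := by
    have h8 : 8 * j ≤ k := by omega
    have h2 : 8 * (j * (k + 2)) ≤ k * (k + 2) := by
      rw [← mul_assoc]; exact Nat.mul_le_mul_right _ h8
    have h3 : 6 * k ≤ k * k := Nat.mul_le_mul_right k (by omega)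
    have h4 : k * (k + 2) = k * k + 2 * k := by ring
    have h5 : 2 * j * (k + 2) = 2 * (j * (k + 2)) := by ring
    rw [h5]
    have h6 : 3 * (2 * n / 3) ≤ 2 * n := Nat.mul_div_le _ _
    omega
  refine h1.trans ?_
  calc (2 * n) ^ (k + 2) * 4 ^ (2 * n / 3) ≤ (2 ^ (2 * j)) ^ (k + 2) * 4 ^ (2 * n / 3) :=
        Nat.mul_le_mul_right _ (Nat.pow_le_pow_left h2n _)
    _ = 2 ^ (2 * j * (k + 2) + 2 * (2 * n / 3)) := by
        rw [← pow_mul, pow_add, show (4 : ℕ) = 2 ^ 2 by norm_num, ← pow_mul]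
    _ ≤ 2 ^ (2 * n) := Nat.pow_le_pow_right (by norm_num) hexp
    _ = 4 ^ n := by rw [pow_mul]; norm_num

/-- two primes in `(n/2, n]` -/
def TwoPrimesIn (n : ℕ) : Prop :=
  ∃ p q : ℕ, p.Prime ∧ q.Prime ∧ p < q ∧ n < 2 * p ∧ q ≤ n

theorem twoPrimesIn_large {n : ℕ} (hn : 2304 ≤ n) : TwoPrimesIn n := by
  set m := n / 2 with hm
  obtain ⟨p0, hp0, h1, h2⟩ := Nat.exists_prime_lt_and_le_two_mul m (by omega)
  by_cases h : ∀ p : ℕ, p.Prime → m < p → p ≤ 2 * m → p = p0
  · exfalso
    have hc := centralBinom_le_of_one_prime m p0 (by omega) h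
    have hl := Nat.four_pow_lt_mul_centralBinom m (by omega)
    have hi := main_inequality (n := m) (by omega)
    have := (hl.trans_le (Nat.mul_le_mul_left m hc)).trans_le hi
    exact lt_irrefl _ this
  · push Not at h
    obtain ⟨q, hq, hq1, hq2, hne⟩ := h
    rcases lt_or_gt_of_ne hne with h' | h'
    · exact ⟨q, p0, hq, hp0, h', by omega, by omega⟩
    · exact ⟨p0, q, hp0, hq, h', by omega, by omega⟩

theorem twoPrimesIn_step {n : ℕ} (p q : ℕ) (hp : p.Prime) (hq : q.Prime) (hpq : p < q)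
    (h : n < q → TwoPrimesIn n) (hn : n < 2 * p) : TwoPrimesIn n := by
  by_cases hnq : n < q
  · exact h hnq
  · exact ⟨p, q, hp, hq, hpq, hn, by omega⟩

theorem exists_two_primes (n : ℕ) (hn : 11 ≤ n) : TwoPrimesIn n := by
  by_cases h : 2304 ≤ n
  · exact twoPrimesIn_large h
  have hlt : n < 2 * 1499 := by omega
  refine twoPrimesIn_step 1499 1511 (by norm_num) (by norm_num) (by norm_num) (fun h1 => ?_) hlt
  refine twoPrimesIn_step 757 761 (by norm_num) (by norm_num) (by norm_num) (fun h2 => ?_) (by omega)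
  refine twoPrimesIn_step 383 389 (by norm_num) (by norm_num) (by norm_num) (fun h3 => ?_) (by omega)
  refine twoPrimesIn_step 199 211 (by norm_num) (by norm_num) (by norm_num) (fun h4 => ?_) (by omega)
  refine twoPrimesIn_step 109 113 (by norm_num) (by norm_num) (by norm_num) (fun h5 => ?_) (by omega)
  refine twoPrimesIn_step 59 61 (by norm_num) (by norm_num) (by norm_num) (fun h6 => ?_) (by omega)
  refine twoPrimesIn_step 31 37 (by norm_num) (by norm_num) (by norm_num) (fun h7 => ?_) (by omega)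
  refine twoPrimesIn_step 19 23 (by norm_num) (by norm_num) (by norm_num) (fun h8 => ?_) (by omega)
  refine twoPrimesIn_step 13 17 (by norm_num) (by norm_num) (by norm_num) (fun h9 => ?_) (by omega)
  refine twoPrimesIn_step 11 13 (by norm_num) (by norm_num) (by norm_num) (fun h10 => ?_) (by omega)
  exact ⟨7, 11, by norm_num, by norm_num, by norm_num, by omega, hn⟩

end CfsgLib.AltSpec
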